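import Mathlib
import Cfsg.Prelude.Def_Classical
import Cfsg.Prelude.Def_GeometricClasses
import Cfsg.Agent.H940.MaxCls
import Cfsg.Agent.H955.Sp
import Cfsg.Agent.LieClassical.SympPerfect
import Cfsg.Agent.Prune
set_option linter.all false
prune_inst 0x7f00000000000000000000000000000000000000000000000000000000000000000000000000000000000000000000000000000000000000000000000000000000000000000000000000000000000000003fffffffffffffffffffffffffffbeffbdffffffff
open scoped Cfsg.Agent.FastGrp

/-!
# Maximal subgroups of `Sp₄(q)` and of `PSp₄(q)` (helper16)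

`co_of_max` : a subgroup `H` of `GL₄(F)` which is maximal in `spGL 2 F` gives a maximal subgroup `img H` of
`PSp 2 F`; `index_mul` : `[PSp₄(q) : img H] · |H| = |Sp₄(q)|`.
-/

set_option autoImplicit false

namespace Cfsg.Agent.H16.PSp4

open Cfsg Cfsg.Geo Matrix Cfsg.Agent.H940.MaxCls Cfsg.Agent.ClassicalGeometry.SympBasic

universe u

variable {m : ℕ} {F : Type u} [Field F]

/-- `spGL` and Mathlib's symplectic group -/
noncomputable def toSymp (m : ℕ) (F : Type u) [Field F] : spGL m F ≃* Matrix.symplecticGroup (Fin m) F where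
  toFun g := ⟨(g.1 : Matrix (Fin m ⊕ Fin m) (Fin m ⊕ Fin m) F), mem_symplecticGroup_iff.2 (fun u v => g.2 u v)⟩
  invFun A := ⟨Matrix.GeneralLinearGroup.mk'' A.1 (SymplecticGroup.symplectic_det A.2),
    mem_symplecticGroup_iff.1 A.2⟩
  left_inv := fun g => Subtype.ext (Units.ext rfl)
  right_inv := fun A => rfl
  map_mul' := fun g h => Subtype.ext (by simp)

/-- the projection onto `PSp` -/
noncomputable def prj (m : ℕ) (F : Type u) [Field F] : spGL m F →* PSp m F :=
  (QuotientGroup.mk' (Subgroup.center (Matrix.symplecticGroup (Fin m) F))).comp (toSymp m F).toMonoidHom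

theorem prj_surj : Function.Surjective (prj m F) := by
  intro x
  obtain ⟨y, rfl⟩ := QuotientGroup.mk'_surjective _ x
  exact ⟨(toSymp m F).symm y, by simp [prj]⟩

theorem prj_ker : (prj m F).ker ≤ Subgroup.center (spGL m F) := by
  intro x hx
  rw [MonoidHom.mem_ker] at hx
  have h1 : toSymp m F x ∈ Subgroup.center (Matrix.symplecticGroup (Fin m) F) := by
    have : (QuotientGroup.mk' (Subgroup.center (Matrix.symplecticGroup (Fin m) F))) (toSymp m F x) = 1 := hx
    rwa [QuotientGroup.mk'_apply, QuotientGroup.eq_one_iff] at this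
  rw [Subgroup.mem_center_iff] at h1 ⊢
  intro g
  apply (toSymp m F).injective
  rw [map_mul, map_mul]
  exact h1 _

theorem spGL_perfect [Fintype F] (h : 3 ≤ m ∨ (m = 2 ∧ 3 ≤ Fintype.card F) ∨ 4 ≤ Fintype.card F) :
    commutator (spGL m F) = ⊤ := by
  have h1 := Cfsg.Agent.LieClassical.SympPerfect.commutator_eq_top (m := m) (F := F) h
  have h2 : Subgroup.map (toSymp m F).toMonoidHom (commutator (spGL m F)) = ⊤ := by
    rw [commutator_def, Subgroup.map_commutator, ← MonoidHom.range_eq_map]
    have : (toSymp m F).toMonoidHom.range = ⊤ := MonoidHom.range_eq_top.2 (toSymp m F).surjective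
    rw [this, ← commutator_def, h1]
  refine (Subgroup.map_injective (f := (toSymp m F).toMonoidHom) (toSymp m F).injective) ?_
  rw [h2, ← MonoidHom.range_eq_map]
  exact (MonoidHom.range_eq_top.2 (toSymp m F).surjective).symm

/-- the image in `PSp` of a subgroup of the general linear group -/
noncomputable def img (H : Subgroup (Matrix.GeneralLinearGroup (Fin m ⊕ Fin m) F)) : Subgroup (PSp m F) :=
  (H.subgroupOf (spGL m F)).map (prj m F)

theorem co_of_isMaximalIn {G : Type*} [Group G] {S H : Subgroup G} (h : IsMaximalIn S H) :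
    IsCoatom (H.subgroupOf S) := by
  refine ⟨fun h1 => ?_, fun L hL => ?_⟩
  · rw [Subgroup.subgroupOf_eq_top] at h1
    exact absurd h.1 (not_lt_of_ge h1)
  · have h2 : H ≤ L.map S.subtype := by
      intro x hx
      have : (⟨x, h.1.le hx⟩ : S) ∈ L := hL.le (Subgroup.mem_subgroupOf.2 hx)
      exact ⟨_, this, rfl⟩
    have h3 : L.map S.subtype ≤ S := by
      rintro x ⟨y, -, rfl⟩
      exact y.2
    rcases h.2 _ h2 h3 with h4 | h4
    · exfalso
      apply hL.ne
      ext x
      rw [Subgroup.mem_subgroupOf, ← h4]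
      exact ⟨fun ⟨y, hy, hyx⟩ => by rwa [← Subtype.ext hyx], fun hx => ⟨x, hx, rfl⟩⟩
    · rw [eq_top_iff]
      intro x _
      have : (x : G) ∈ L.map S.subtype := by rw [h4]; exact x.2
      obtain ⟨y, hy, hyx⟩ := this
      rwa [← Subtype.ext hyx]

theorem co_of_max [Fintype F] (hm : 3 ≤ m ∨ (m = 2 ∧ 3 ≤ Fintype.card F) ∨ 4 ≤ Fintype.card F)
    {H : Subgroup (Matrix.GeneralLinearGroup (Fin m ⊕ Fin m) F)} (h : IsMaximalIn (spGL m F) H) :
    IsCoatom (img H) :=
  isCoatom_map prj_surj prj_ker (spGL_perfect hm) (co_of_isMaximalIn h)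

theorem index_mul [Fintype F] (hm : 3 ≤ m ∨ (m = 2 ∧ 3 ≤ Fintype.card F) ∨ 4 ≤ Fintype.card F)
    {H : Subgroup (Matrix.GeneralLinearGroup (Fin m ⊕ Fin m) F)} (h : IsMaximalIn (spGL m F) H) :
    (img H).index * Nat.card H = Nat.card (spGL m F) := by
  have h1 : (img H).index = (H.subgroupOf (spGL m F)).index :=
    Subgroup.index_map_eq _ prj_surj
      (ker_le_of_isCoatom prj_surj prj_ker (spGL_perfect hm) (co_of_isMaximalIn h))
  rw [h1, mul_comm]
  have h2 := (H.subgroupOf (spGL m F)).card_mul_index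
  rw [← h2]
  congr 1
  exact (Nat.card_congr (Subgroup.subgroupOfEquivOfLe h.1.le).toEquiv).symm

end Cfsg.Agent.H16.PSp4

private theorem dce_26a5a324c5d6 : _root_.True := by
  try have : _root_.True := by simp only [_root_.Cfsg.Agent.H16.PSp4.prj.eq_1]
  exact _root_.True.intro
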